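/- Kernel check of the class closure for M24, part B. -/
import Cfsg.Agent.OutMathieu.DataM24

set_option autoImplicit false

namespace Cfsg.Agent.OutMathieu

theorem m24ClassB : certM24.classB 165 165 = true := by decide +kernel

end Cfsg.Agent.OutMathieu
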