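/-
Bounding the outer automorphism group of a two-generated group of permutations of the 24 points
inside M24 by checkable data: an element `a` of prime order generating a Sylow subgroup and an
element `b` conjugate to the central involution of a Sylow 2-subgroup.
-/
import Cfsg.Agent.Compute.M24Base
import Cfsg.Agent.Compute.NormalSlp
import Cfsg.Agent.GroupSub.CodeFus
import Cfsg.Prelude.Def_KGroupFacts

set_option autoImplicit false

namespace Cfsg.Agent.OutMathieu

open Cfsg Cfsg.Agent.Compute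
open scoped Pointwise

/-! ### Words, evaluated point by point -/

/-- The image of a point under a word in two codes (`true` is the first one). -/
noncomputable def actWord (a b : ℕ) (w : List Bool) (i : ℕ) : ℕ :=
  List.rec (motive := fun _ => ℕ) i (fun x _ r => rep24.act (cond x a b) r) w

/-- The image of a point under a power of a word. -/
noncomputable def actPow (a b : ℕ) (w : List Bool) (m i : ℕ) : ℕ :=
  Nat.rec (motive := fun _ => ℕ) i (fun _ r => actWord a b w r) m

/-- A relation holds, tested point by point. -/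
noncomputable def relB (a b : ℕ) (r : List Bool × ℕ) : Bool :=
  allBelow 24 (fun i => Nat.beq (actPow a b r.1 r.2 i) i)

/-- All relations hold. -/
noncomputable def relsB (a b : ℕ) (rels : List (List Bool × ℕ)) : Bool :=
  List.rec (motive := fun _ => Bool) true (fun r _ acc => relB a b r && acc) rels

theorem relsB_eq {a b : ℕ} {rels : List (List Bool × ℕ)} :
    relsB a b rels = rels.all (relB a b) := by
  induction rels with
  | nil => rfl
  | cons r rs ih =>
      have : relsB a b (r :: rs) = (relB a b r && relsB a b rs) := rfl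
      rw [this, ih, List.all_cons]

variable {M : Type*} [Group M]

/-- The value of a word in two elements. -/
def wordEval (x y : M) (w : List Bool) : M :=
  w.foldr (fun t r => cond t x y * r) 1

theorem map_wordEval {N : Type*} [Group N] (f : M →* N) (x y : M) (w : List Bool) :
    f (wordEval x y w) = wordEval (f x) (f y) w := by
  induction w with
  | nil => exact map_one f
  | cons t w ih =>
      show f (cond t x y * wordEval x y w) = cond t (f x) (f y) * wordEval (f x) (f y) w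
      rw [map_mul, ih]
      cases t <;> rfl

theorem actWord_spec {a b : ℕ} (ha : rep24.Ok a) (hb : rep24.Ok b) (w : List Bool) {i : ℕ}
    (hi : i < 24) :
    actWord a b w i < 24 ∧
      wordEval (rep24.den a) (rep24.den b) w (rep24.pt i) = rep24.pt (actWord a b w i) := by
  induction w with
  | nil => exact ⟨hi, rfl⟩
  | cons t w ih =>
      obtain ⟨hlt, he⟩ := ih
      have hok : rep24.Ok (cond t a b) := by cases t <;> assumption
      refine ⟨rep24.act_lt _ _ hok hlt, ?_⟩
      show (cond t (rep24.den a) (rep24.den b) * wordEval (rep24.den a) (rep24.den b) w)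
        (rep24.pt i) = rep24.pt (rep24.act (cond t a b) (actWord a b w i))
      rw [Equiv.Perm.mul_apply, he, ← rep24.act_spec _ _ hok hlt, Equiv.Perm.smul_def]
      cases t <;> rfl

theorem actPow_spec {a b : ℕ} (ha : rep24.Ok a) (hb : rep24.Ok b) (w : List Bool) (m : ℕ) {i : ℕ}
    (hi : i < 24) :
    actPow a b w m i < 24 ∧
      (wordEval (rep24.den a) (rep24.den b) w ^ m) (rep24.pt i) = rep24.pt (actPow a b w m i) := by
  induction m with
  | zero => exact ⟨hi, by rw [pow_zero]; rfl⟩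
  | succ m ih =>
      obtain ⟨hlt, he⟩ := ih
      obtain ⟨hlt', he'⟩ := actWord_spec ha hb w hlt
      refine ⟨hlt', ?_⟩
      rw [pow_succ', Equiv.Perm.mul_apply, he, he']
      rfl

theorem relB_iff {a b : ℕ} (ha : rep24.Ok a) (hb : rep24.Ok b) (r : List Bool × ℕ) :
    relB a b r = true ↔ wordEval (rep24.den a) (rep24.den b) r.1 ^ r.2 = 1 := by
  rw [relB, allBelow_eq_true]
  constructor
  · intro h
    refine Equiv.ext fun p => ?_
    obtain ⟨-, he⟩ := actPow_spec ha hb r.1 r.2 (ptIdx_lt p)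
    rw [rep24_pt_ptIdx, Nat.eq_of_beq_eq_true (h _ (ptIdx_lt p)), rep24_pt_ptIdx] at he
    exact he
  · intro h i hi
    obtain ⟨hlt, he⟩ := actPow_spec ha hb r.1 r.2 hi
    rw [h, Equiv.Perm.one_apply] at he
    rw [Nat.beq_eq]
    exact (rep24.pt_inj _ _ hi hlt he).symm

/-! ### Elements of M24 and the points that determine them -/

/-- The seven base points. -/
def basePts : List ℕ := [0, 1, 2, 3, 4, 5, 23]

theorem basePts_lt : ∀ i ∈ basePts, i < 24 := by decide

theorem basePts_cover : ∀ i < 24, Nat.testBit 0x80003f i = true → i ∈ basePts := by decide +kernel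

theorem eq_of_basePts {g h : Equiv.Perm GolayPt} (hg : g ∈ M24) (hh : h ∈ M24)
    (H : ∀ i ∈ basePts, g (rep24.pt i) = h (rep24.pt i)) : g = h := by
  have : g⁻¹ * h = 1 := by
    refine eq_one_of_propB m24Prop 0x80003f m24Prop_check (mul_mem (inv_mem hg) hh) fun p hp => ?_
    have e := H _ (basePts_cover _ (ptIdx_lt p) hp)
    rw [rep24_pt_ptIdx] at e
    rw [Equiv.Perm.mul_apply, ← e, ← Equiv.Perm.mul_apply, inv_mul_cancel, Equiv.Perm.one_apply]
  exact inv_mul_eq_one.mp this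

/-! ### Certificates -/

/-- Data bounding the outer automorphism group. -/
structure OCert where
  /-- element of prime order -/
  a : ℕ
  /-- involution conjugate to the central one -/
  b : ℕ
  /-- the order of `a` -/
  p : ℕ
  /-- number of live classes of images of `a` -/
  n : ℕ
  /-- the powers `a ^ i`, `i ≤ p` -/
  pw : List ℕ
  /-- for `k = 1, …, p - 1`: conjugator, its inverse, index of the representative -/
  kk : List (ℕ × ℕ × ℕ)
  /-- representatives of the images of `a` -/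
  reps : List ℕ
  /-- for each live representative, the index of the only possible image of `b` -/
  surv : List ℕ
  /-- relations satisfied by `a` and `b` -/
  rels : List (List Bool × ℕ)
  /-- representatives of the orbits of `⟨a⟩` on the class of `b` -/
  orbs : List ℕ
  /-- conjugation by `b`: for each representative one number with fields `32 * index + power` -/
  wit : List ℕ
  /-- width of the fields of `wit` -/
  w : ℕ
  /-- conjugator of the central involution to `b` and its inverse -/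
  gz : ℕ × ℕ
  /-- the central involution: index and power -/
  zwit : ℕ × ℕ

variable (C : OCert)

/-- Entry of the power table. -/
noncomputable def OCert.apw (i : ℕ) : ℕ := C.pw.getD i rep24.one

/-- Entry of the orbit table. -/
noncomputable def OCert.orb (j : ℕ) : ℕ := C.orbs.getD j rep24.one

/-- Image of a point under `a^i t a^(p-i)`. -/
noncomputable def OCert.conjAct (i t x : ℕ) : ℕ :=
  rep24.act (C.apw i) (rep24.act t (rep24.act (C.apw (C.p - i)) x))

/-- Basic facts on the data. -/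
noncomputable def OCert.baseB (Hb : ℕ → Bool) : Bool :=
  Hb C.a && Hb C.b && Nat.beq (rep24.mul C.b C.b) rep24.one &&
    Nat.beq (C.apw 0) rep24.one &&
    allBelow C.p (fun i => Nat.beq (C.apw (i + 1)) (rep24.mul C.a (C.apw i))) &&
    Nat.beq (C.apw C.p) rep24.one && Nat.ble 2 C.p && !(Nat.beq (rep24.act C.a 1) 1) &&
    Nat.ble C.n C.reps.length &&
    C.reps.all (fun r => rep24.okb r && Nat.beq (rep24.mul r C.a) (rep24.mul C.a r)) &&
    C.orbs.all Hb && C.surv.all (fun j => Nat.blt j C.orbs.length) &&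
    relsB C.a C.b C.rels

/-- The powers of `a` are conjugate to the representatives. -/
noncomputable def OCert.powB (Hb : ℕ → Bool) : Bool :=
  allBelow (C.p - 1) (fun k =>
    Hb (C.kk.getD k (rep24.one, rep24.one, 0)).1 &&
    rep24.okb (C.kk.getD k (rep24.one, rep24.one, 0)).2.1 &&
    Nat.beq (rep24.mul (C.kk.getD k (rep24.one, rep24.one, 0)).1
      (C.kk.getD k (rep24.one, rep24.one, 0)).2.1) rep24.one &&
    Nat.blt (C.kk.getD k (rep24.one, rep24.one, 0)).2.2 C.reps.length &&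
    Nat.beq (rep24.mul (rep24.mul (C.kk.getD k (rep24.one, rep24.one, 0)).1 (C.apw (k + 1)))
      (C.kk.getD k (rep24.one, rep24.one, 0)).2.1)
      (C.reps.getD (C.kk.getD k (rep24.one, rep24.one, 0)).2.2 rep24.one))

/-- One step of closure of the class under conjugation by `b`. -/
noncomputable def OCert.stepB (j i : ℕ) : Bool :=
  Nat.blt (Nat.div (getField C.w (C.wit.getD j 0) i) 32) C.orbs.length &&
  Nat.ble (Nat.mod (getField C.w (C.wit.getD j 0) i) 32) C.p &&
  basePts.all (fun x =>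
    Nat.beq (rep24.act C.b (C.conjAct i (C.orb j) (rep24.act C.b x)))
      (C.conjAct (Nat.mod (getField C.w (C.wit.getD j 0) i) 32)
        (C.orb (Nat.div (getField C.w (C.wit.getD j 0) i) 32)) x))

/-- Closure of the class, for the representatives `lo ≤ j < lo + len`. -/
noncomputable def OCert.classB (lo len : ℕ) : Bool :=
  allBelow len (fun j => allBelow C.p (C.stepB (lo + j)))

/-- The central involution lies in the class and is conjugate to `b`. -/
noncomputable def OCert.zB (Hb : ℕ → Bool) (z : ℕ) : Bool :=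
  Nat.blt C.zwit.1 C.orbs.length && Nat.ble C.zwit.2 C.p &&
  basePts.all (fun x => Nat.beq (rep24.act z x) (C.conjAct C.zwit.2 (C.orb C.zwit.1) x)) &&
  Hb C.gz.1 && rep24.okb C.gz.2 && Nat.beq (rep24.mul C.gz.1 C.gz.2) rep24.one &&
  Nat.beq (rep24.mul (rep24.mul C.gz.1 z) C.gz.2) C.b

/-- Only the recorded representatives satisfy the relations. -/
noncomputable def OCert.survB : Bool :=
  allBelow C.reps.length (fun k => allBelow C.orbs.length (fun j =>
    !(relsB (C.reps.getD k rep24.one) (C.orb j) C.rels) ||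
      (Nat.blt k C.n && Nat.beq j (C.surv.getD k 0))))

/-- Everything known about a group with a certificate. -/
structure OCert.Sound (H : Subgroup (Equiv.Perm GolayPt)) (z : ℕ) : Prop where
  okA : rep24.Ok C.a
  okB : rep24.Ok C.b
  memA : rep24.den C.a ∈ H
  memB : rep24.den C.b ∈ H
  okPw : ∀ i, i ≤ C.p → rep24.Ok (C.apw i) ∧ rep24.den (C.apw i) = rep24.den C.a ^ i
  powA : rep24.den C.a ^ C.p = 1
  neA : rep24.den C.a ≠ 1
  ptwo : 2 ≤ C.p
  sqB : rep24.den C.b * rep24.den C.b = 1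
  nle : C.n ≤ C.reps.length
  reps : ∀ k < C.reps.length, rep24.Ok (C.reps.getD k rep24.one) ∧
    Commute (rep24.den (C.reps.getD k rep24.one)) (rep24.den C.a)
  orbs : ∀ j < C.orbs.length, rep24.Ok (C.orb j) ∧ rep24.den (C.orb j) ∈ H
  rels : ∀ r ∈ C.rels, wordEval (rep24.den C.a) (rep24.den C.b) r.1 ^ r.2 = 1
  powers : ∀ k, 1 ≤ k → k < C.p → ∃ g ∈ H, ∃ i < C.reps.length,
    g * rep24.den C.a ^ k * g⁻¹ = rep24.den (C.reps.getD i rep24.one)
  step : ∀ j < C.orbs.length, ∀ i < C.p, ∃ j' < C.orbs.length, ∃ i' ≤ C.p,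
    rep24.den C.b * (rep24.den C.a ^ i * rep24.den (C.orb j) * rep24.den C.a ^ (C.p - i)) *
        rep24.den C.b =
      rep24.den C.a ^ i' * rep24.den (C.orb j') * rep24.den C.a ^ (C.p - i')
  zclass : ∃ j < C.orbs.length, ∃ i ≤ C.p,
    rep24.den z = rep24.den C.a ^ i * rep24.den (C.orb j) * rep24.den C.a ^ (C.p - i)
  zconj : ∃ g ∈ H, g * rep24.den z * g⁻¹ = rep24.den C.b
  surv : ∀ k < C.reps.length, ∀ j < C.orbs.length,
    (∀ r ∈ C.rels, wordEval (rep24.den (C.reps.getD k rep24.one)) (rep24.den (C.orb j)) r.1 ^ r.2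
      = 1) → k < C.n ∧ j = C.surv.getD k 0

theorem conjAct_spec {C : OCert} {i t : ℕ} (hi : rep24.Ok (C.apw i) ∧ rep24.den (C.apw i) = rep24.den C.a ^ i)
    (hi' : rep24.Ok (C.apw (C.p - i)) ∧
      rep24.den (C.apw (C.p - i)) = rep24.den C.a ^ (C.p - i))
    (ht : rep24.Ok t) {x : ℕ} (hx : x < 24) :
    C.conjAct i t x < 24 ∧
      (rep24.den C.a ^ i * rep24.den t * rep24.den C.a ^ (C.p - i)) (rep24.pt x) =
        rep24.pt (C.conjAct i t x) := by
  have h1 := rep24.act_lt _ _ hi'.1 hx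
  have h2 := rep24.act_lt _ _ ht h1
  refine ⟨rep24.act_lt _ _ hi.1 h2, ?_⟩
  rw [OCert.conjAct, ← rep24.act_spec _ _ hi.1 h2, ← rep24.act_spec _ _ ht h1,
    ← rep24.act_spec _ _ hi'.1 hx, hi.2, hi'.2]
  rfl

theorem OCert.sound_of_checks {H : Subgroup (Equiv.Perm GolayPt)} {Hb : ℕ → Bool} {z : ℕ}
    (hHM : H ≤ M24)
    (hH : ∀ g, Hb g = true → rep24.Ok g ∧ rep24.den g ∈ H)
    (hz : rep24.Ok z ∧ rep24.den z ∈ H)
    (h1 : C.baseB Hb = true) (h2 : C.powB Hb = true)
    (h3 : ∀ j < C.orbs.length, ∀ i < C.p, C.stepB j i = true)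
    (h4 : C.zB Hb z = true) (h5 : C.survB = true) : C.Sound H z := by
  simp only [OCert.baseB, Bool.and_eq_true, Nat.beq_eq, allBelow_eq_true, List.all_eq_true,
    Nat.ble_eq, Nat.blt_eq, Bool.not_eq_true', relsB_eq] at h1
  obtain ⟨⟨⟨⟨⟨⟨⟨⟨⟨⟨⟨⟨hHa, hHb⟩, hbb⟩, hp0⟩, hps⟩, hpp⟩, hp2⟩, hne⟩, hnle⟩, hreps⟩, horbs⟩, -⟩, hrels⟩ := h1
  obtain ⟨hokA, hmemA⟩ := hH _ hHa
  obtain ⟨hokB, hmemB⟩ := hH _ hHb
  have hpw : ∀ i, i ≤ C.p → rep24.Ok (C.apw i) ∧ rep24.den (C.apw i) = rep24.den C.a ^ i := by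
    intro i
    induction i with
    | zero => intro _; rw [hp0, pow_zero]; exact ⟨rep24.ok_one, rep24.den_one⟩
    | succ i ih =>
        intro hi
        obtain ⟨ho, hd⟩ := ih (by omega)
        rw [hps i (by omega)]
        exact ⟨rep24.ok_mul _ _ hokA ho, by rw [rep24.den_mul _ _ hokA ho, hd, pow_succ']⟩
  have hpowA : rep24.den C.a ^ C.p = 1 := by rw [← (hpw _ le_rfl).2, hpp, rep24.den_one]
  have horb : ∀ j < C.orbs.length, rep24.Ok (C.orb j) ∧ rep24.den (C.orb j) ∈ H := by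
    intro j hj
    rw [OCert.orb, List.getD_eq_getElem _ _ hj]
    exact hH _ (horbs _ (List.getElem_mem hj))
  have hrep : ∀ k < C.reps.length, rep24.Ok (C.reps.getD k rep24.one) ∧
      Commute (rep24.den (C.reps.getD k rep24.one)) (rep24.den C.a) := by
    intro k hk
    rw [List.getD_eq_getElem _ _ hk]
    obtain ⟨ho, hc⟩ := hreps _ (List.getElem_mem hk)
    have ho := rep24.okb_sound _ ho
    refine ⟨ho, ?_⟩
    rw [Commute, SemiconjBy, ← rep24.den_mul _ _ ho hokA, ← rep24.den_mul _ _ hokA ho, hc]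
  refine ⟨hokA, hokB, hmemA, hmemB, hpw, hpowA, ?_, hp2, ?_, hnle, hrep, horb, ?_, ?_, ?_, ?_, ?_, ?_⟩
  · intro h
    have e := rep24.act_spec C.a 1 hokA (show 1 < 24 by norm_num)
    rw [h, one_smul] at e
    have := rep24.pt_inj _ _ (show 1 < 24 by norm_num) (rep24.act_lt _ _ hokA (show 1 < 24 by norm_num)) e
    rw [← this] at hne
    simp at hne
  · rw [← rep24.den_mul _ _ hokB hokB, hbb, rep24.den_one]
  · exact fun r hr => (relB_iff hokA hokB r).mp (hrels r hr)
  · intro k hk1 hk2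
    simp only [OCert.powB, Bool.and_eq_true, Nat.beq_eq, allBelow_eq_true, Nat.blt_eq] at h2
    obtain ⟨⟨⟨⟨hc, hci⟩, hcc⟩, hidx⟩, he⟩ := h2 (k - 1) (by omega)
    rw [show k - 1 + 1 = k by omega] at he
    obtain ⟨hco, hcm⟩ := hH _ hc
    have hcio := rep24.okb_sound _ hci
    refine ⟨_, hcm, _, hidx, ?_⟩
    have hinv : rep24.den (C.kk.getD (k - 1) (rep24.one, rep24.one, 0)).2.1 =
        (rep24.den (C.kk.getD (k - 1) (rep24.one, rep24.one, 0)).1)⁻¹ :=
      eq_inv_of_mul_eq_one_right (by rw [← rep24.den_mul _ _ hco hcio, hcc, rep24.den_one])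
    rw [← he, rep24.den_mul _ _ (rep24.ok_mul _ _ hco (hpw k hk2.le).1) hcio,
      rep24.den_mul _ _ hco (hpw k hk2.le).1, (hpw k hk2.le).2, hinv]
  · intro j hj i hi
    have h := h3 j hj i hi
    simp only [OCert.stepB, Bool.and_eq_true, Nat.blt_eq, Nat.ble_eq, List.all_eq_true,
      Nat.beq_eq] at h
    obtain ⟨⟨hj', hi'⟩, hpts⟩ := h
    refine ⟨_, hj', _, hi', eq_of_basePts (hHM ?_) (hHM ?_) fun x hx => ?_⟩
    · exact mul_mem (mul_mem hmemB (mul_mem (mul_mem (pow_mem hmemA _) (horb j hj).2)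
        (pow_mem hmemA _))) hmemB
    · exact mul_mem (mul_mem (pow_mem hmemA _) (horb _ hj').2) (pow_mem hmemA _)
    · have hx24 := basePts_lt x hx
      have hb1 := rep24.act_lt C.b x hokB hx24
      obtain ⟨hl, he⟩ := conjAct_spec (hpw i hi.le) (hpw _ (Nat.sub_le _ _)) (horb j hj).1 hb1
      obtain ⟨-, he'⟩ := conjAct_spec (hpw _ hi') (hpw _ (Nat.sub_le _ _)) (horb _ hj').1 hx24
      rw [he', ← hpts x hx, ← rep24.act_spec _ _ hokB hl, ← he,
        ← rep24.act_spec _ _ hokB hx24]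
      rfl
  · simp only [OCert.zB, Bool.and_eq_true, Nat.blt_eq, Nat.ble_eq, List.all_eq_true,
      Nat.beq_eq] at h4
    obtain ⟨⟨⟨⟨⟨⟨hj, hi⟩, hpts⟩, -⟩, -⟩, -⟩, -⟩ := h4
    refine ⟨_, hj, _, hi, eq_of_basePts (hHM hz.2) (hHM ?_) fun x hx => ?_⟩
    · exact mul_mem (mul_mem (pow_mem hmemA _) (horb _ hj).2) (pow_mem hmemA _)
    · obtain ⟨-, he⟩ := conjAct_spec (hpw _ hi) (hpw _ (Nat.sub_le _ _)) (horb _ hj).1
        (basePts_lt x hx)
      rw [he, ← hpts x hx, ← rep24.act_spec _ _ hz.1 (basePts_lt x hx)]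
      rfl
  · simp only [OCert.zB, Bool.and_eq_true, Nat.blt_eq, Nat.ble_eq, List.all_eq_true,
      Nat.beq_eq] at h4
    obtain ⟨⟨⟨⟨-, hg⟩, hgi⟩, hgg⟩, he⟩ := h4
    obtain ⟨hgo, hgm⟩ := hH _ hg
    have hgio := rep24.okb_sound _ hgi
    refine ⟨_, hgm, ?_⟩
    rw [← he, rep24.den_mul _ _ (rep24.ok_mul _ _ hgo hz.1) hgio, rep24.den_mul _ _ hgo hz.1]
    rw [eq_inv_of_mul_eq_one_right (a := rep24.den C.gz.1) (b := rep24.den C.gz.2)
      (by rw [← rep24.den_mul _ _ hgo hgio, hgg, rep24.den_one])]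
  · intro k hk j hj hr
    simp only [OCert.survB, allBelow_eq_true, Bool.or_eq_true, Bool.and_eq_true, Nat.blt_eq,
      Nat.beq_eq, Bool.not_eq_true', relsB_eq] at h5
    rcases h5 k hk j hj with h | h
    · have : C.rels.all (relB (C.reps.getD k rep24.one) (C.orb j)) = true :=
        List.all_eq_true.mpr fun r hr' =>
          (relB_iff (hrep k hk).1 (horb j hj).1 r).mpr (hr r hr')
      rw [this] at h
      exact absurd h (by decide)
    · exact h

/-! ### Consequences -/

variable {H : Subgroup (Equiv.Perm GolayPt)} {z : ℕ}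

/-- A member of the class, in the form used by the certificate. -/
def OCert.InClass (σ : Equiv.Perm GolayPt) : Prop :=
  ∃ j < C.orbs.length, ∃ i ≤ C.p,
    σ = rep24.den C.a ^ i * rep24.den (C.orb j) * rep24.den C.a ^ (C.p - i)

theorem OCert.Sound.pow_inv {C : OCert} (S : C.Sound H z) {i : ℕ} (hi : i ≤ C.p) :
    rep24.den C.a ^ (C.p - i) = (rep24.den C.a ^ i)⁻¹ :=
  eq_inv_of_mul_eq_one_left (by rw [← pow_add, Nat.sub_add_cancel hi, S.powA])

theorem OCert.Sound.inClass_mem {C : OCert} (S : C.Sound H z) {σ : Equiv.Perm GolayPt}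
    (h : C.InClass σ) : σ ∈ H := by
  obtain ⟨j, hj, i, -, rfl⟩ := h
  exact mul_mem (mul_mem (pow_mem S.memA _) (S.orbs j hj).2) (pow_mem S.memA _)

theorem OCert.Sound.inClass_lt {C : OCert} (S : C.Sound H z) {σ : Equiv.Perm GolayPt}
    (h : C.InClass σ) : ∃ j < C.orbs.length, ∃ i < C.p,
      σ = rep24.den C.a ^ i * rep24.den (C.orb j) * rep24.den C.a ^ (C.p - i) := by
  obtain ⟨j, hj, i, hi, rfl⟩ := h
  rcases Nat.lt_or_ge i C.p with hlt | hge
  · exact ⟨j, hj, i, hlt, rfl⟩
  · obtain rfl : i = C.p := le_antisymm hi hge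
    refine ⟨j, hj, 0, lt_of_lt_of_le two_pos S.ptwo, ?_⟩
    rw [Nat.sub_self, Nat.sub_zero, S.powA, pow_zero]

theorem OCert.Sound.inClass_conjA {C : OCert} (S : C.Sound H z) {σ : Equiv.Perm GolayPt}
    (h : C.InClass σ) : C.InClass (rep24.den C.a * σ * (rep24.den C.a)⁻¹) := by
  obtain ⟨j, hj, i, hi, rfl⟩ := S.inClass_lt h
  refine ⟨j, hj, i + 1, hi, ?_⟩
  rw [S.pow_inv hi.le, S.pow_inv hi, pow_succ']
  group

theorem OCert.Sound.inClass_conjB {C : OCert} (S : C.Sound H z) {σ : Equiv.Perm GolayPt}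
    (h : C.InClass σ) : C.InClass (rep24.den C.b * σ * (rep24.den C.b)⁻¹) := by
  obtain ⟨j, hj, i, hi, rfl⟩ := S.inClass_lt h
  obtain ⟨j', hj', i', hi', he⟩ := S.step j hj i hi
  refine ⟨j', hj', i', hi', ?_⟩
  rw [← he, ← eq_inv_of_mul_eq_one_left S.sqB]

theorem OCert.Sound.inClass_conj {C : OCert} (S : C.Sound H z)
    (hgen : H ≤ Subgroup.closure {rep24.den C.a, rep24.den C.b}) {g σ : Equiv.Perm GolayPt}
    (hg : g ∈ H) (h : C.InClass σ) : C.InClass (g * σ * g⁻¹) := by
  have hmon : g ∈ Submonoid.closure ({rep24.den C.a, rep24.den C.b} : Set (Equiv.Perm GolayPt)) := by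
    rw [← Subgroup.closure_toSubmonoid_of_finite]
    exact hgen hg
  induction hmon using Submonoid.closure_induction generalizing σ with
  | mem x hx =>
      rcases hx with rfl | rfl
      · exact S.inClass_conjA h
      · exact S.inClass_conjB h
  | one => simpa using h
  | mul x y hx hy ihx ihy =>
      have hxy : ∀ u ∈ Submonoid.closure ({rep24.den C.a, rep24.den C.b} : Set (Equiv.Perm GolayPt)),
          u ∈ H := by
        intro u hu
        refine (Submonoid.closure_le (S := H.toSubmonoid)).2 ?_ hu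
        rintro _ (rfl | rfl)
        · exact S.memA
        · exact S.memB
      have h1 := ihx (hxy x hx) (ihy (hxy y hy) h)
      convert h1 using 1
      group

/-- Normalising an automorphism: after an inner one, the images of `a` and `b` are recorded ones. -/
theorem OCert.Sound.exists_norm {C : OCert} (S : C.Sound H z)
    (hgen : H ≤ Subgroup.closure {rep24.den C.a, rep24.den C.b})
    (hp : C.p.Prime) (hdvd : ¬ C.p * C.p ∣ Nat.card H)
    (hzH : rep24.den z ∈ H)
    (hcen : ∀ φ : MulAut H, ∃ h : H, φ ⟨_, hzH⟩ = h * ⟨_, hzH⟩ * h⁻¹)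
    (φ : MulAut H) : ∃ h : H, ∃ k < C.n,
      ((MulAut.conj h * φ) ⟨_, S.memA⟩ : H).1 = rep24.den (C.reps.getD k rep24.one) ∧
      ((MulAut.conj h * φ) ⟨_, S.memB⟩ : H).1 = rep24.den (C.orb (C.surv.getD k 0)) := by
  haveI : Fact C.p.Prime := ⟨hp⟩
  set A : H := ⟨_, S.memA⟩ with hA
  set B : H := ⟨_, S.memB⟩ with hB
  set Z : H := ⟨_, hzH⟩ with hZ
  have hordA : orderOf A = C.p := by
    refine orderOf_eq_prime (Subtype.ext ?_) fun h => S.neA (congrArg Subtype.val h)
    exact S.powA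
  -- Sylow subgroups of order `p`
  have hsyl : ∀ x : H, orderOf x = C.p → Nat.card (Subgroup.zpowers x) =
      C.p ^ (Nat.card H).factorization C.p := by
    intro x hx
    rw [Nat.card_zpowers, hx]
    have h1 : C.p ∣ Nat.card H := hx ▸ orderOf_dvd_natCard x
    have hne : Nat.card H ≠ 0 := Nat.card_pos.ne'
    have : (Nat.card H).factorization C.p = 1 := by
      refine le_antisymm ?_ (hp.factorization_pos_of_dvd hne h1)
      by_contra h2
      exact hdvd ((pow_two C.p).symm.dvd.trans ((hp.pow_dvd_iff_le_factorization hne).2 (by omega)))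
    rw [this, pow_one]
  have hordφ : orderOf (φ A) = C.p := by rw [MulEquiv.orderOf_eq, hordA]
  obtain ⟨g, hg⟩ := MulAction.exists_smul_eq H (Sylow.ofCard _ (hsyl (φ A) hordφ))
    (Sylow.ofCard _ (hsyl A hordA))
  have hgA : g * φ A * g⁻¹ ∈ Subgroup.zpowers A := by
    have h1 : g * φ A * g⁻¹ ∈ ((g • Sylow.ofCard _ (hsyl (φ A) hordφ) : Sylow C.p H) : Subgroup H) := by
      rw [Sylow.coe_subgroup_smul, Subgroup.mem_smul_pointwise_iff_exists]
      exact ⟨φ A, Subgroup.mem_zpowers _, by simp [MulAut.smul_def, MulAut.conj_apply]⟩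
    rw [hg] at h1
    exact h1
  obtain ⟨k, hkp, hk⟩ : ∃ k < C.p, A ^ k = g * φ A * g⁻¹ := by
    rw [mem_zpowers_iff_mem_range_orderOf, hordA, Finset.mem_image] at hgA
    obtain ⟨k, hk, he⟩ := hgA
    exact ⟨k, Finset.mem_range.1 hk, he⟩
  have hk1 : 1 ≤ k := by
    by_contra h0
    rw [show k = 0 by omega, pow_zero] at hk
    have : φ A = 1 := by
      have := congrArg (fun x => g⁻¹ * x * g) hk
      simpa [mul_assoc] using this.symm
    exact S.neA (congrArg Subtype.val ((MulEquiv.map_eq_one_iff φ).1 this))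
  obtain ⟨c, hc, idx, hidx, hce⟩ := S.powers k hk1 hkp
  set h₁ : H := ⟨c, hc⟩ * g with hh₁
  have hψA : ((MulAut.conj h₁ * φ) A : H).1 = rep24.den (C.reps.getD idx rep24.one) := by
    rw [← hce, show rep24.den C.a ^ k = ((A ^ k : H) : Equiv.Perm GolayPt) from rfl, hk]
    simp [hh₁, MulAut.conj_apply, mul_assoc]
  -- the image of `b`
  obtain ⟨gz, hgz, hgze⟩ := S.zconj
  obtain ⟨hc2, hhc2⟩ := hcen (MulAut.conj h₁ * φ)
  have hB' : B = ⟨gz, hgz⟩ * Z * (⟨gz, hgz⟩ : H)⁻¹ := Subtype.ext hgze.symm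
  have hclB : C.InClass (((MulAut.conj h₁ * φ) B : H) : Equiv.Perm GolayPt) := by
    rw [hB', map_mul, map_mul, map_inv, hhc2]
    have hzc : C.InClass (rep24.den z) := S.zclass
    have := S.inClass_conj hgen (mul_mem ((MulAut.conj h₁ * φ) ⟨gz, hgz⟩).2 hc2.2) hzc
    convert this using 1
    simp [hZ, mul_assoc]
  obtain ⟨j, hj, i, hi, hψB⟩ := hclB
  set R := rep24.den (C.reps.getD idx rep24.one) with hR
  refine ⟨(⟨_, pow_mem S.memA i⟩ : H)⁻¹ * h₁, ?_⟩
  have hψ2 : ∀ x : H, (((MulAut.conj ((⟨_, pow_mem S.memA i⟩ : H)⁻¹ * h₁) * φ) x : H) :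
      Equiv.Perm GolayPt) = (rep24.den C.a ^ i)⁻¹ * ((MulAut.conj h₁ * φ) x : H).1 *
        rep24.den C.a ^ i := by
    intro x
    simp [MulAut.conj_apply, mul_assoc]
  have hA2 : (((MulAut.conj ((⟨_, pow_mem S.memA i⟩ : H)⁻¹ * h₁) * φ) A : H) :
      Equiv.Perm GolayPt) = R := by
    rw [hψ2, hψA, mul_assoc, ((S.reps idx hidx).2.pow_right i).eq, inv_mul_cancel_left]
  have hB2 : (((MulAut.conj ((⟨_, pow_mem S.memA i⟩ : H)⁻¹ * h₁) * φ) B : H) :
      Equiv.Perm GolayPt) = rep24.den (C.orb j) := by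
    rw [hψ2, hψB, S.pow_inv hi]
    group
  have hrels : ∀ r ∈ C.rels, wordEval R (rep24.den (C.orb j)) r.1 ^ r.2 = 1 := by
    intro r hr
    set ψ := MulAut.conj ((⟨_, pow_mem S.memA i⟩ : H)⁻¹ * h₁) * φ
    have e : wordEval A B r.1 ^ r.2 = 1 := by
      apply Subtype.ext
      have := map_wordEval H.subtype A B r.1
      simp only [Subgroup.coe_subtype] at this
      rw [SubmonoidClass.coe_pow, this]
      exact S.rels r hr
    have e2 := congrArg (fun x => ((ψ x : H) : Equiv.Perm GolayPt)) e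
    simp only [map_pow, map_one, SubmonoidClass.coe_pow, OneMemClass.coe_one] at e2
    have := map_wordEval (H.subtype.comp ψ.toMonoidHom) A B r.1
    simp only [MonoidHom.coe_comp, Function.comp_apply, Subgroup.coe_subtype,
      MulEquiv.coe_toMonoidHom] at this
    rw [this, hA2, hB2] at e2
    exact e2
  obtain ⟨hk2, hj2⟩ := S.surv idx hidx j hj hrels
  exact ⟨idx, hk2, hA2, hj2 ▸ hB2⟩

/-- The bound. -/
theorem OCert.Sound.card_out_le {C : OCert} (S : C.Sound H z)
    (hgen : H ≤ Subgroup.closure {rep24.den C.a, rep24.den C.b})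
    (hp : C.p.Prime) (hdvd : ¬ C.p * C.p ∣ Nat.card H)
    (hzH : rep24.den z ∈ H)
    (hcen : ∀ φ : MulAut H, ∃ h : H, φ ⟨_, hzH⟩ = h * ⟨_, hzH⟩ * h⁻¹) :
    Nat.card (Cfsg.Out H) ≤ C.n := by
  classical
  choose hh kk hkk hAk hBk using S.exists_norm hgen hp hdvd hzH hcen
  let f : Cfsg.Out H → Fin C.n := fun q => ⟨kk q.out, hkk q.out⟩
  have hf : Function.Injective f := by
    intro q₁ q₂ he
    have hk : kk q₁.out = kk q₂.out := congrArg Fin.val he
    have heq : MulAut.conj (hh q₁.out) * q₁.out = MulAut.conj (hh q₂.out) * q₂.out := by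
      refine MulEquiv.ext fun x => ?_
      obtain ⟨x, hx⟩ := x
      have key : ∀ y, ∀ hy : y ∈ Subgroup.closure
          ({rep24.den C.a, rep24.den C.b} : Set (Equiv.Perm GolayPt)), ∃ hyH : y ∈ H,
          (MulAut.conj (hh q₁.out) * q₁.out) (⟨y, hyH⟩ : H) =
            (MulAut.conj (hh q₂.out) * q₂.out) (⟨y, hyH⟩ : H) := by
        intro y hy
        induction hy using Subgroup.closure_induction with
        | mem y hy =>
            rcases hy with rfl | rfl
            · exact ⟨S.memA, Subtype.ext (by rw [hAk, hAk, hk])⟩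
            · exact ⟨S.memB, Subtype.ext (by rw [hBk, hBk, hk])⟩
        | one => exact ⟨one_mem H, by rw [show (⟨1, one_mem H⟩ : H) = 1 from rfl, map_one, map_one]⟩
        | mul u v _ _ hu hv =>
            obtain ⟨hu', hu⟩ := hu
            obtain ⟨hv', hv⟩ := hv
            refine ⟨mul_mem hu' hv', ?_⟩
            rw [show (⟨u * v, mul_mem hu' hv'⟩ : H) = ⟨u, hu'⟩ * ⟨v, hv'⟩ from rfl, map_mul,
              map_mul, hu, hv]
        | inv u _ hu =>
            obtain ⟨hu', hu⟩ := hu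
            refine ⟨inv_mem hu', ?_⟩
            rw [show (⟨u⁻¹, inv_mem hu'⟩ : H) = (⟨u, hu'⟩ : H)⁻¹ from rfl, map_inv, map_inv, hu]
      obtain ⟨hxH, h⟩ := key x (hgen hx)
      exact h
    rw [← QuotientGroup.out_eq' q₁, ← QuotientGroup.out_eq' q₂, QuotientGroup.eq]
    have e : q₁.out⁻¹ * q₂.out =
        q₁.out⁻¹ * ((MulAut.conj (hh q₂.out))⁻¹ * MulAut.conj (hh q₁.out)) * (q₁.out⁻¹)⁻¹ := by
      rw [inv_inv, mul_assoc, mul_assoc (MulAut.conj (hh q₂.out))⁻¹, heq, inv_mul_cancel_left]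
    rw [e]
    exact (inferInstance : (Cfsg.Inn H).Normal).conj_mem _
      (mul_mem (inv_mem ⟨_, rfl⟩) ⟨_, rfl⟩) _
  exact (Nat.card_le_card_of_injective f hf).trans (le_of_eq (Nat.card_fin _))

/-- An automorphism carries the central involution of a Sylow 2-subgroup to a conjugate. -/
theorem exists_conj_central {H : Subgroup (Equiv.Perm GolayPt)} {z : ℕ} 
    {Hb : ℕ → Bool}
    (hH : ∀ g, Hb g = true → rep24.Ok g ∧ rep24.den g ∈ H)
    (C : GroupSub.CodeFus.Cert) (hC3 : C.z = z)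
    (h1 : C.groupB Hb = true) (h3 : C.centerB = true) {m : ℕ}
    (hcard : Nat.card H = 2 ^ C.xs.length * m) (hm : ¬ 2 ∣ m)
    (hz1 : rep24.den z ≠ 1) :
    ∃ hzH : rep24.den z ∈ H, ∀ φ : MulAut H, ∃ h : H, φ ⟨_, hzH⟩ = h * ⟨_, hzH⟩ * h⁻¹ := by
  classical
  subst hC3
  haveI : Fact (Nat.Prime 2) := ⟨Nat.prime_two⟩
  simp only [GroupSub.CodeFus.Cert.groupB, Bool.and_eq_true, List.all_eq_true, Nat.beq_eq,
    memB_eq_true] at h1
  obtain ⟨⟨⟨hxH, hxC⟩, hpc⟩, hzE⟩ := h1
  have hxs : ∀ x ∈ C.xs, GroupSub.CodeFus.Good x := fun x hx => ⟨(hH x (hxH x hx)).1, hxC x hx⟩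
  obtain ⟨hmem, -⟩ := GroupSub.CodeFus.pc_sound hxs hpc
  have hE := GroupSub.CodeFus.good_elems fun x hx => (hxs x hx).1
  have hle : GroupSub.CodeFus.grp C.xs ≤ H := by
    rw [GroupSub.CodeFus.grp, Rep.span, Subgroup.closure_le]
    rintro _ ⟨x, hx, rfl⟩
    exact (hH x (hxH x hx)).2
  have hzH : rep24.den C.z ∈ H := hle ((hmem _).2 ⟨_, hzE, rfl⟩)
  refine ⟨hzH, fun φ => ?_⟩
  have hcard0 : Nat.card ((GroupSub.CodeFus.grp C.xs).subgroupOf H) =
      2 ^ (Nat.card H).factorization 2 := by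
    rw [Nat.card_congr (Subgroup.subgroupOfEquivOfLe hle).toEquiv,
      GroupSub.CodeFus.card_grp hxs hpc, hcard,
      Nat.factorization_mul (by positivity) (by rintro rfl; exact hm (dvd_zero 2)),
      Finsupp.add_apply, Nat.prime_two.factorization_pow,
      Nat.factorization_eq_zero_of_not_dvd hm]
    simp
  set S₀ : Subgroup H := (GroupSub.CodeFus.grp C.xs).subgroupOf H with hS₀
  let P : Sylow 2 H := Sylow.ofCard _ hcard0
  have hcard1 : Nat.card (S₀.map φ.toMonoidHom) = 2 ^ (Nat.card H).factorization 2 := by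
    rw [Subgroup.card_map_of_injective φ.injective, hcard0]
  obtain ⟨g, hg⟩ := MulAction.exists_smul_eq H (Sylow.ofCard _ hcard1) P
  set Z : H := ⟨_, hzH⟩ with hZ
  have hZS : Z ∈ S₀ := Subgroup.mem_subgroupOf.2 ((hmem _).2 ⟨_, hzE, rfl⟩)
  -- every element of the image of `S₀` goes into `S₀`
  have himg : ∀ x ∈ S₀, g * φ x * g⁻¹ ∈ S₀ := by
    intro x hx
    have h1 : g * φ x * g⁻¹ ∈ ((g • Sylow.ofCard _ hcard1 : Sylow 2 H) : Subgroup H) := by
      rw [Sylow.coe_subgroup_smul, Subgroup.mem_smul_pointwise_iff_exists]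
      exact ⟨φ x, ⟨x, hx, rfl⟩, by simp [MulAut.smul_def, MulAut.conj_apply]⟩
    rw [hg] at h1
    exact h1
  have hsurj : ∀ y ∈ S₀, ∃ x ∈ S₀, g * φ x * g⁻¹ = y := by
    intro y hy
    have h1 : y ∈ ((g • Sylow.ofCard _ hcard1 : Sylow 2 H) : Subgroup H) := by rw [hg]; exact hy
    rw [Sylow.coe_subgroup_smul, Subgroup.mem_smul_pointwise_iff_exists] at h1
    obtain ⟨_, ⟨x, hx, rfl⟩, rfl⟩ := h1
    exact ⟨x, hx, by simp [MulAut.smul_def, MulAut.conj_apply]⟩
  -- the central elements of `S₀`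
  simp only [GroupSub.CodeFus.Cert.centerB, List.all_eq_true, Bool.or_eq_true, Nat.beq_eq,
    List.any_eq_true, Bool.not_eq_true'] at h3
  have hcentral : ∀ e : H, e ∈ S₀ → (∀ x ∈ S₀, x * e = e * x) → e = 1 ∨ e = Z := by
    intro e he hc
    obtain ⟨c, hc', hce⟩ := (hmem _).1 (Subgroup.mem_subgroupOf.1 he)
    rcases h3 c hc' with (h | h) | ⟨x, hx, hne⟩
    · left; exact Subtype.ext (by rw [← hce, h, rep24.den_one]; rfl)
    · right; exact Subtype.ext (by rw [← hce, h])
    · exfalso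
      have hxS : (⟨rep24.den x, (hH x (hxH x hx)).2⟩ : H) ∈ S₀ :=
        Subgroup.mem_subgroupOf.2 (rep24.den_mem_span hx)
      have e1 := congrArg Subtype.val (hc _ hxS)
      simp only [Subgroup.coe_mul, ← hce, ← rep24.den_mul _ _ (hE c hc').1 (hxs x hx).1,
        ← rep24.den_mul _ _ (hxs x hx).1 (hE c hc').1] at e1
      have := GroupSub.CodeFus.den_injective (GroupSub.CodeFus.good_mul (hxs x hx).1 (hE c hc').1)
        (GroupSub.CodeFus.good_mul (hE c hc').1 (hxs x hx).1) e1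
      rw [this] at hne
      simp at hne
  -- `Z` is central in `S₀`
  have hZcomm : ∀ x ∈ S₀, x * Z = Z * x := by
    by_contra hbad
    push_neg at hbad
    haveI : Nontrivial S₀ := ⟨⟨Z, hZS⟩, 1, fun h => hz1 (congrArg (fun t : S₀ => ((t : H) : Equiv.Perm GolayPt)) h)⟩
    have hP : IsPGroup 2 S₀ := IsPGroup.of_card hcard0
    obtain ⟨⟨e, heS⟩, hec, hne⟩ := (Subgroup.center S₀).bot_or_exists_ne_one.resolve_left
      hP.bot_lt_center.ne'
    have hcc : ∀ x ∈ S₀, x * e = e * x := fun x hx =>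
      congrArg Subtype.val (Subgroup.mem_center_iff.1 hec ⟨x, hx⟩)
    rcases hcentral e heS hcc with rfl | rfl
    · exact hne rfl
    · obtain ⟨x, hx, hxe⟩ := hbad
      exact hxe (hcc x hx)
  rcases hcentral (g * φ Z * g⁻¹) (himg Z hZS) (fun y hy => by
    obtain ⟨x, hx, rfl⟩ := hsurj y hy
    have := congrArg φ (hZcomm x hx)
    rw [map_mul, map_mul] at this
    calc g * φ x * g⁻¹ * (g * φ Z * g⁻¹) = g * (φ x * φ Z) * g⁻¹ := by group
      _ = g * (φ Z * φ x) * g⁻¹ := by rw [this]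
      _ = g * φ Z * g⁻¹ * (g * φ x * g⁻¹) := by group) with h | h
  · exfalso
    refine hz1 (congrArg Subtype.val ((MulEquiv.map_eq_one_iff φ).1 (?_ : φ Z = 1)))
    calc φ Z = g⁻¹ * (g * φ Z * g⁻¹) * g := by group
      _ = 1 := by rw [h]; group
  · exact ⟨g⁻¹, by
      calc φ Z = g⁻¹ * (g * φ Z * g⁻¹) * g := by group
        _ = g⁻¹ * Z * g⁻¹⁻¹ := by rw [h, inv_inv]⟩

end Cfsg.Agent.OutMathieu
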