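/-
A lower bound for the outer automorphism group: conjugation by an element of M24 normalising the
group but outside it, when the group has trivial centraliser in M24.
-/
import Cfsg.Agent.OutMathieu.Basic

set_option autoImplicit false

namespace Cfsg.Agent.OutMathieu

open Cfsg Cfsg.Agent.Compute

/-- Every point outside `excl` is separated from every other point by one of the words. -/
noncomputable def sepB (a b : ℕ) (words : List (List Bool)) (excl : ℕ) : Bool :=
  allBelow 24 (fun p => bitB excl p || allBelow 24 (fun q => Nat.beq q p ||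
    words.any (fun w => !(Nat.beq (actWord a b w p) p == Nat.beq (actWord a b w q) q))))

theorem eq_one_of_commute {a b : ℕ} (ha : rep24.Ok a) (hb : rep24.Ok b) {words : List (List Bool)}
    {excl : ℕ} (h : sepB a b words excl = true) {steps : List (ℕ × List ℕ)}
    (hp : propB steps (Nat.xor (2 ^ 24 - 1) excl) = true) {c : Equiv.Perm GolayPt} (hc : c ∈ M24)
    (hca : Commute c (rep24.den a)) (hcb : Commute c (rep24.den b)) : c = 1 := by
  refine eq_one_of_propB steps _ hp hc fun x hx => ?_
  rw [show Nat.xor (2 ^ 24 - 1) excl = (2 ^ 24 - 1) ^^^ excl from rfl, Nat.testBit_xor,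
    Nat.testBit_two_pow_sub_one, decide_eq_true (ptIdx_lt x)] at hx
  simp only [sepB, allBelow_eq_true, Bool.or_eq_true, List.any_eq_true, Nat.beq_eq,
    Bool.not_eq_true', bitB_eq] at h
  by_contra hne
  rcases h _ (ptIdx_lt x) with h1 | h1
  · simp [h1] at hx
  rcases h1 _ (ptIdx_lt (c x)) with h2 | ⟨w, -, hw⟩
  · exact hne (ptIdx_injective h2)
  · have hcomm : Commute c (wordEval (rep24.den a) (rep24.den b) w) := by
      clear hw
      induction w with
      | nil => exact Commute.one_right c
      | cons t w ih =>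
          show Commute c (cond t (rep24.den a) (rep24.den b) * wordEval _ _ w)
          cases t
          · exact hcb.mul_right ih
          · exact hca.mul_right ih
    set W := wordEval (rep24.den a) (rep24.den b) w
    have hfix : ∀ y : GolayPt, W y = y ↔ actWord a b w (ptIdx y) = ptIdx y := by
      intro y
      obtain ⟨hlt, he⟩ := actWord_spec ha hb w (ptIdx_lt y)
      rw [rep24_pt_ptIdx] at he
      change W y = _ at he
      rw [he]
      constructor
      · intro e
        refine rep24.pt_inj _ _ hlt (ptIdx_lt y) (e.trans (rep24_pt_ptIdx y).symm)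
      · intro e; rw [e, rep24_pt_ptIdx]
    have key : W (c x) = c x ↔ W x = x := by
      have e : W (c x) = c (W x) := by
        rw [← Equiv.Perm.mul_apply, ← hcomm.eq, Equiv.Perm.mul_apply]
      rw [e]; exact c.injective.eq_iff
    rw [hfix, hfix] at key
    rw [show Nat.beq (actWord a b w (ptIdx x)) (ptIdx x) =
      Nat.beq (actWord a b w (ptIdx (c x))) (ptIdx (c x)) from
        Bool.eq_iff_iff.mpr (by rw [Nat.beq_eq, Nat.beq_eq]; exact key.symm)] at hw
    simp at hw

theorem two_le_card_out {H : Subgroup (Equiv.Perm GolayPt)} (hHM : H ≤ M24)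
    (G₀ : Equiv.Perm GolayPt) (hG₀ : G₀ ∈ M24) (hnot : G₀ ∉ H)
    (hnorm : H.map (MulAut.conj G₀).toMonoidHom ≤ H)
    (A B : Equiv.Perm GolayPt) (hA : A ∈ H) (hB : B ∈ H)
    (hcent : ∀ c ∈ M24, Commute c A → Commute c B → c = 1) :
    2 ≤ Nat.card (Cfsg.Out H) := by
  have heq : H.map (MulAut.conj G₀).toMonoidHom = H :=
    Subgroup.eq_of_le_of_card_ge hnorm
      (le_of_eq (Subgroup.card_map_of_injective (MulAut.conj G₀).injective).symm)
  have hinv : ∀ x ∈ H, G₀⁻¹ * x * G₀ ∈ H := by
    intro x hx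
    rw [← heq] at hx
    obtain ⟨y, hy, rfl⟩ := hx
    simpa [MulAut.conj_apply, mul_assoc] using hy
  let ψ : MulAut H :=
    { toFun := fun x => ⟨G₀ * x * G₀⁻¹, hnorm ⟨x, x.2, rfl⟩⟩
      invFun := fun x => ⟨G₀⁻¹ * x * G₀, hinv x x.2⟩
      left_inv := fun x => Subtype.ext (by simp [mul_assoc])
      right_inv := fun x => Subtype.ext (by simp [mul_assoc])
      map_mul' := fun x y => Subtype.ext (by simp [mul_assoc]) }
  have hψ : (QuotientGroup.mk ψ : Cfsg.Out H) ≠ 1 := by
    rw [Ne, QuotientGroup.eq_one_iff]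
    rintro ⟨h, hh⟩
    refine hnot ?_
    have key : ∀ x ∈ H, Commute ((h : Equiv.Perm GolayPt)⁻¹ * G₀) x := by
      intro x hx
      have e := congrArg (fun f : MulAut H => ((f ⟨x, hx⟩ : H) : Equiv.Perm GolayPt)) hh
      have e' : (h : Equiv.Perm GolayPt) * x * (h : Equiv.Perm GolayPt)⁻¹ = G₀ * x * G₀⁻¹ := e
      calc (h : Equiv.Perm GolayPt)⁻¹ * G₀ * x
          = (h : Equiv.Perm GolayPt)⁻¹ * (G₀ * x * G₀⁻¹) * G₀ := by group
        _ = x * ((h : Equiv.Perm GolayPt)⁻¹ * G₀) := by rw [← e']; group
    have := hcent _ (mul_mem (inv_mem (hHM h.2)) hG₀) (key A hA) (key B hB)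
    rw [inv_mul_eq_one] at this
    exact this ▸ h.2
  haveI : Nontrivial (Cfsg.Out H) := ⟨_, _, hψ⟩
  exact Finite.one_lt_card

end Cfsg.Agent.OutMathieu
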