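/-
Assembling the certificates.
-/
import Cfsg.Agent.OutMathieu.Basic
import Cfsg.Agent.OutMathieu.Outer

set_option autoImplicit false

namespace Cfsg.Agent.OutMathieu

open Cfsg Cfsg.Agent.Compute

theorem card_out_le_of_cert {H : Subgroup (Equiv.Perm GolayPt)} {Hb : ℕ → Bool} (hHM : H ≤ M24)
    (hH : ∀ g, Hb g = true → rep24.Ok g ∧ rep24.den g ∈ H)
    {gens : List ℕ} (hspan : H = rep24.span gens)
    (C : OCert) (K : GroupSub.CodeFus.Cert) (steps : List SlpStep)
    (hslp : rep24.slpCheck steps [rep24.one, C.a, C.b] gens = true)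
    (hK1 : K.groupB Hb = true) (hK3 : K.centerB = true)
    (hz : rep24.okb K.z = true ∧ allBelow 24 (fun i => Nat.beq (rep24.act K.z i) i) = false)
    (h1 : C.baseB Hb = true) (h2 : C.powB Hb = true)
    (h3 : ∀ j < C.orbs.length, ∀ i < C.p, C.stepB j i = true)
    (h4 : C.zB Hb K.z = true) (h5 : C.survB = true)
    {m : ℕ} (hcard : Nat.card H = 2 ^ K.xs.length * m) (hm : ¬ 2 ∣ m)
    (hp : C.p.Prime) (hdvd : ¬ C.p * C.p ∣ Nat.card H) :
    Nat.card (Cfsg.Out H) ≤ C.n := by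
  have hzok := rep24.okb_sound _ hz.1
  have hz1 : rep24.den K.z ≠ 1 := by
    intro h
    refine absurd ?_ (Bool.eq_false_iff.mp hz.2)
    rw [allBelow_eq_true]
    intro i hi
    have e := rep24.act_spec K.z i hzok hi
    rw [h, one_smul] at e
    exact Nat.beq_eq ▸ (rep24.pt_inj _ _ hi (rep24.act_lt _ _ hzok hi) e).symm
  obtain ⟨hzH, hcen⟩ := exists_conj_central hH K rfl hK1 hK3 hcard hm hz1
  have S := C.sound_of_checks hHM hH ⟨hzok, hzH⟩ h1 h2 h3 h4 h5
  refine S.card_out_le ?_ hp hdvd hzH hcen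
  rw [hspan, Rep.span, Subgroup.closure_le]
  rintro _ ⟨t, ht, rfl⟩
  refine (rep24.slp_sound steps _ gens _ ?_ hslp t ht).2
  intro c hc
  simp only [List.mem_cons, List.not_mem_nil, or_false] at hc
  rcases hc with rfl | rfl | rfl
  · exact ⟨rep24.ok_one, by rw [rep24.den_one]; exact one_mem _⟩
  · exact ⟨S.okA, Subgroup.subset_closure (Or.inl rfl)⟩
  · exact ⟨S.okB, Subgroup.subset_closure (Or.inr rfl)⟩

end Cfsg.Agent.OutMathieu
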